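import Cfsg.Agent.CosetCert.HNX4.FactsData
import Cfsg.Agent.CosetCert.HNX4.JustData
import Cfsg.Agent.CosetCert.CoxExtra
import Cfsg.Agent.CosetCert.Pack
import Cfsg.Agent.CosetCert.WordOne

/-! Generated: a partial log proving a word trivial. -/

set_option maxRecDepth 100000

namespace Cfsg.Agent.CosetCert.HNX4

noncomputable def data : Data where
  K := 4
  n := 0
  M := 2477
  Nf := 4886
  nR := 11
  iv := fun x => if x = 0 then 1 else if x = 1 then 0 else if x = 2 then 3 else if x = 3 then 2 else x
  F := get48 factStore
  J := getVar justStore
  E := fun _ => 0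
  L := fun _ => 0
  P := fun _ => 0
  W := [

    [2, 2, 2, 2, 2, 2],
    [0, 0, 2, 0, 0, 3],
    [1, 3, 0, 2, 1, 3, 0, 2, 1, 3, 0, 2],
    [1, 2, 2, 0, 2, 2, 2, 1, 2, 2, 0, 2, 2, 2, 1, 2, 2, 0, 2, 2, 2],
    [0, 2, 0, 2, 0, 2, 0, 2, 0, 2, 0, 2, 0, 2, 0, 2],
    [0, 2, 0, 2, 2, 2, 0, 2, 0, 2, 2, 2, 0, 2, 0, 2, 2, 2, 0, 2, 0, 2, 2, 2],
    [],
    [0, 1],
    [1, 0],
    [2, 3],
    [3, 2]]
  PW := fun k => Nat.land (Nat.shiftRight 0x6400000000000000000000000000008300000000000000000000000000002200000000000000000000000000004100000000000000000000000000000018c61184631846118c6118463184610000000000184611846118461184610000318c23188631846310c6308c62000000000000000184821848218482000000000000000000000008108c21000000000000000000000006318c63 (Nat.mul 120 k)) 0xffffffffffffffffffffffffffffff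
  powers := []

/-- The relators of the presentation. -/
def relWords : List (List (Fin 2 × Bool)) := [
    [(1, true), (1, true), (1, true), (1, true), (1, true), (1, true)],
    [(0, true), (0, true), (1, true), (0, true), (0, true), (1, false)],
    [(0, false), (1, false), (0, true), (1, true), (0, false), (1, false), (0, true), (1, true), (0, false), (1, false), (0, true), (1, true)],
    [(0, false), (1, true), (1, true), (0, true), (1, true), (1, true), (1, true), (0, false), (1, true), (1, true), (0, true), (1, true), (1, true), (1, true), (0, false), (1, true), (1, true), (0, true), (1, true), (1, true), (1, true)],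
    [(0, true), (1, true), (0, true), (1, true), (0, true), (1, true), (0, true), (1, true), (0, true), (1, true), (0, true), (1, true), (0, true), (1, true), (0, true), (1, true)],
    [(0, true), (1, true), (0, true), (1, true), (1, true), (1, true), (0, true), (1, true), (0, true), (1, true), (1, true), (1, true), (0, true), (1, true), (0, true), (1, true), (1, true), (1, true), (0, true), (1, true), (0, true), (1, true), (1, true), (1, true)]]

/-- The numbering of the generators. -/
def enc (b : Fin 2) : Nat := 2 * b.val

/-- The generator of a number. -/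
def dec (x : Nat) : Fin 2 × Bool :=
  (if x / 2 = 0 then 0 else if x / 2 = 1 then 1 else 1, Nat.beq (x % 2) 0)

/-- The generators of the subgroup. -/
def subGens : List (FreeGroup (Fin 2)) := []

/-- The word proved trivial. -/
def target : List (Fin 2 × Bool) := [(0, true), (0, true), (0, true), (0, true)]

/-- The walk spelling it. -/
def items : Nat := 0x30080a8000200080b4000330098a800000

end Cfsg.Agent.CosetCert.HNX4
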